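import Cfsg.Agent.H577.GLB.StdLab
import Cfsg.Agent.H614.GLn.RSForm

/-!
# S4536 / S4537, section DB: the truncation is a self-adjoint projection (helper120)

`tauP_idem`, `form_tauP`
-/

set_option autoImplicit false
set_option linter.unusedSectionVars false
set_option linter.unusedVariables false

open scoped ComplexConjugate

namespace Cfsg.Agent.H120.GLB.Tau

open MvPolynomial Cfsg.Agent.H614 Cfsg.Agent.H577.GLB.Std Cfsg.Agent.H614.GLn.RSt

variable {Q : ℤ} {M : ℕ} [NeZero M] {p : ℕ}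

/-! ### the `p`-characters -/

theorem mem_Eta {k : ℕ} {η : ZMod M} : η ∈ Eta Q M p k ↔ TorZ Q M k η ∧ ∃ j : ℕ, (p : ZMod M) ^ j * η = 0 := by
  classical
  rw [Eta, Finset.mem_filter]; simp

theorem tor_add {k : ℕ} {c c' : ZMod M} (h : TorZ Q M k c) (h' : TorZ Q M k c') : TorZ Q M k (c + c') := by
  unfold TorZ at *
  rw [mul_add, h, h', add_zero]

theorem tor_neg {k : ℕ} {c : ZMod M} (h : TorZ Q M k c) : TorZ Q M k (-c) := by
  unfold TorZ at *
  rw [mul_neg, h, neg_zero]

theorem tor_mul {k : ℕ} {c : ZMod M} (h : TorZ Q M k c) (a : ZMod M) : TorZ Q M k (a * c) := by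
  unfold TorZ at *
  rw [mul_left_comm, h, mul_zero]

theorem torZ_zero (k : ℕ) : TorZ Q M k 0 := by
  unfold TorZ
  rw [mul_zero]

theorem tor_add_iff {k : ℕ} {c c' : ZMod M} (h' : TorZ Q M k c') : TorZ Q M k (c + c') ↔ TorZ Q M k c := by
  refine ⟨fun h => ?_, fun h => tor_add h h'⟩
  have := tor_add h (tor_neg h')
  rwa [add_neg_cancel_right] at this

theorem Eta_zero (k : ℕ) : (0 : ZMod M) ∈ Eta Q M p k := mem_Eta.2 ⟨torZ_zero k, 0, by simp⟩

theorem Eta_add {k : ℕ} {η η' : ZMod M} (h : η ∈ Eta Q M p k) (h' : η' ∈ Eta Q M p k) : η + η' ∈ Eta Q M p k := by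
  rw [mem_Eta] at *
  obtain ⟨h1, j, h2⟩ := h
  obtain ⟨h1', j', h2'⟩ := h'
  refine ⟨tor_add h1 h1', j + j', ?_⟩
  rw [mul_add, pow_add, mul_comm ((p : ZMod M) ^ j), mul_assoc, h2, mul_zero, zero_add, mul_comm ((p : ZMod M) ^ j'),
    mul_assoc, h2', mul_zero]

theorem Eta_neg {k : ℕ} {η : ZMod M} (h : η ∈ Eta Q M p k) : -η ∈ Eta Q M p k := by
  rw [mem_Eta] at *
  obtain ⟨h1, j, h2⟩ := h
  exact ⟨tor_neg h1, j, by rw [mul_neg, h2, neg_zero]⟩

theorem Eta_mul {k : ℕ} {η : ZMod M} (h : η ∈ Eta Q M p k) (a : ZMod M) : a * η ∈ Eta Q M p k := by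
  rw [mem_Eta] at *
  obtain ⟨h1, j, h2⟩ := h
  exact ⟨tor_mul h1 a, j, by rw [mul_left_comm, h2, mul_zero]⟩

theorem Eta_tor {k : ℕ} {η : ZMod M} (h : η ∈ Eta Q M p k) : TorZ Q M k η := (mem_Eta.1 h).1

theorem card_Eta (k : ℕ) : ((Eta Q M p k).card : ℂ) ≠ 0 := by
  have h : 0 < (Eta Q M p k).card := Finset.card_pos.2 ⟨0, Eta_zero k⟩
  exact_mod_cast h.ne'

/-- translation of the sum -/
theorem sum_Eta_add {A : Type*} [AddCommMonoid A] {k : ℕ} {η' : ZMod M} (h' : η' ∈ Eta Q M p k) (f : ZMod M → A) :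
    ∑ η ∈ Eta Q M p k, f (η' + η) = ∑ η ∈ Eta Q M p k, f η := by
  refine Finset.sum_nbij' (fun η => η' + η) (fun η => -η' + η) ?_ ?_ ?_ ?_ ?_
  · intro η hη
    exact Eta_add h' hη
  · intro η hη
    exact Eta_add (Eta_neg h') hη
  · intro η _
    rw [neg_add_cancel_left]
  · intro η _
    rw [add_neg_cancel_left]
  · intro η _
    rfl

/-- scaling of the sum by a unit -/
theorem sum_Eta_mul {A : Type*} [AddCommMonoid A] {k : ℕ} {u : ZMod M} (hu : IsUnit u) (f : ZMod M → A) :
    ∑ η ∈ Eta Q M p k, f (u * η) = ∑ η ∈ Eta Q M p k, f η := by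
  obtain ⟨w, rfl⟩ := hu
  refine Finset.sum_nbij' (fun η => (w : ZMod M) * η) (fun η => ((w⁻¹ : (ZMod M)ˣ) : ZMod M) * η) ?_ ?_ ?_ ?_ ?_
  · intro η hη
    exact Eta_mul hη _
  · intro η hη
    exact Eta_mul hη _
  · intro η _
    rw [Units.inv_mul_cancel_left]
  · intro η _
    rw [Units.mul_inv_cancel_left]
  · intro η _
    rfl

theorem sum_Eta_neg {A : Type*} [AddCommMonoid A] {k : ℕ} (f : ZMod M → A) :
    ∑ η ∈ Eta Q M p k, f (-η) = ∑ η ∈ Eta Q M p k, f η := by
  refine Finset.sum_nbij' (fun η => -η) (fun η => -η) ?_ ?_ ?_ ?_ ?_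
  · intro η hη
    exact Eta_neg hη
  · intro η hη
    exact Eta_neg hη
  · intro η _
    rw [neg_neg]
  · intro η _
    rw [neg_neg]
  · intro η _
    rfl

/-! ### the averages -/

variable (Q M p) in
/-- the average of the variables -/
noncomputable def Av (k : ℕ) (c : ZMod M) : RS M :=
  ((Eta Q M p k).card : ℂ)⁻¹ • ∑ η ∈ Eta Q M p k, rv Q M k (c + η)

theorem rv_of_same (hQ : IsUnit (Q : ZMod M)) (k : ℕ) {c c' : ZMod M} (h : SameZ Q M c c') :
    rv Q M k c = rv Q M k c' := by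
  have h1 : TorZ Q M k c ↔ TorZ Q M k c' := by rw [torZ_iff, torZ_iff, perZ_of_same hQ h]
  unfold rv
  by_cases h2 : 0 < k ∧ TorZ Q M k c
  · rw [if_pos h2, if_pos ⟨h2.1, h1.1 h2.2⟩, canon_eq_of_same hQ h]
  · rw [if_neg h2, if_neg (fun h3 => h2 ⟨h3.1, h1.2 h3.2⟩)]

theorem Av_add {k : ℕ} {η : ZMod M} (h : η ∈ Eta Q M p k) (c : ZMod M) : Av Q M p k (c + η) = Av Q M p k c := by
  unfold Av
  congr 1
  rw [← sum_Eta_add h (fun η => rv Q M k (c + η))]
  refine Finset.sum_congr rfl fun η' _ => ?_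
  rw [add_assoc]

theorem Av_of_same (hQ : IsUnit (Q : ZMod M)) (k : ℕ) {c c' : ZMod M} (h : SameZ Q M c c') :
    Av Q M p k c = Av Q M p k c' := by
  obtain ⟨j, rfl⟩ := h
  unfold Av
  congr 1
  have hu : IsUnit ((Q : ZMod M) ^ j) := hQ.pow j
  rw [← sum_Eta_mul hu (fun η => rv Q M k ((Q : ZMod M) ^ j * c + η))]
  refine Finset.sum_congr rfl fun η' _ => ?_
  rw [← mul_add]
  exact rv_of_same hQ k ⟨j, rfl⟩

theorem tauP_X (v : Var M) : tauP Q M p (X v) = Av Q M p v.1 v.2 := by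
  unfold tauP Av
  rw [aeval_X]

theorem tauP_rv (hQ : IsUnit (Q : ZMod M)) (k : ℕ) (c : ZMod M) : tauP Q M p (rv Q M k c) = Av Q M p k c := by
  by_cases h : 0 < k ∧ TorZ Q M k c
  · rw [rv, if_pos h, tauP_X]
    exact (Av_of_same hQ k (sameZ_canon c)).symm
  · rw [rv, if_neg h, map_zero, Av]
    rw [Finset.sum_eq_zero, smul_zero]
    intro η hη
    rw [rv, if_neg]
    rintro ⟨h1, h2⟩
    exact h ⟨h1, (tor_add_iff (Eta_tor hη)).1 h2⟩

theorem tauP_Av (hQ : IsUnit (Q : ZMod M)) (k : ℕ) (c : ZMod M) : tauP Q M p (Av Q M p k c) = Av Q M p k c := by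
  have h1 : tauP Q M p (Av Q M p k c) = ((Eta Q M p k).card : ℂ)⁻¹ • ∑ η ∈ Eta Q M p k, Av Q M p k (c + η) := by
    conv_lhs => rw [Av]
    rw [map_smul, map_sum]
    congr 1
    exact Finset.sum_congr rfl fun η _ => tauP_rv hQ k _
  rw [h1, Finset.sum_congr rfl (fun η hη => Av_add hη c), Finset.sum_const, ← Nat.cast_smul_eq_nsmul ℂ, smul_smul,
    inv_mul_cancel₀ (card_Eta k), one_smul]

/-! ### the genuine polynomials -/

variable (Q M) in
/-- the substitution of the genuine variables -/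
noncomputable def gen : RS M →ₐ[ℂ] RS M := aeval fun v : Var M => rv Q M v.1 v.2

theorem mem_GenR {x : RS M} : x ∈ GenR Q M ↔ ∃ P, gen Q M P = x := by
  rw [GenR, Algebra.adjoin_range_eq_range_aeval]
  rfl

theorem gen_X (v : Var M) : gen Q M (X v) = rv Q M v.1 v.2 := by
  unfold gen
  rw [aeval_X]

theorem rv_mem (k : ℕ) (c : ZMod M) : rv Q M k c ∈ GenR Q M :=
  Algebra.subset_adjoin ⟨(k, c), rfl⟩

theorem Av_mem (k : ℕ) (c : ZMod M) : Av Q M p k c ∈ GenR Q M :=
  Subalgebra.smul_mem _ (Subalgebra.sum_mem _ fun _ _ => rv_mem _ _) _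

theorem tauP_mem (hQ : IsUnit (Q : ZMod M)) {x : RS M} (hx : x ∈ GenR Q M) : tauP Q M p x ∈ GenR Q M := by
  obtain ⟨P, rfl⟩ := mem_GenR.1 hx
  induction P using MvPolynomial.induction_on with
  | C a =>
    rw [show (C a : RS M) = algebraMap ℂ _ a from rfl, AlgHom.commutes, AlgHom.commutes]
    exact Subalgebra.algebraMap_mem _ a
  | add P P' h h' =>
    rw [map_add, map_add]
    exact add_mem (h (mem_GenR.2 ⟨P, rfl⟩)) (h' (mem_GenR.2 ⟨P', rfl⟩))
  | mul_X P v h =>
    rw [map_mul, map_mul, gen_X, tauP_rv hQ]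
    exact mul_mem (h (mem_GenR.2 ⟨P, rfl⟩)) (Av_mem _ _)

theorem tauP_idem (hp : p.Prime) (hQ : IsUnit (Q : ZMod M)) {x : RS M} (hx : x ∈ GenR Q M) :
    tauP Q M p (tauP Q M p x) = tauP Q M p x := by
  obtain ⟨P, rfl⟩ := mem_GenR.1 hx
  clear hx
  induction P using MvPolynomial.induction_on with
  | C a =>
    rw [show (C a : RS M) = algebraMap ℂ _ a from rfl, AlgHom.commutes, AlgHom.commutes, AlgHom.commutes]
  | add P P' h h' => rw [map_add, map_add, map_add, h, h']
  | mul_X P v h => rw [map_mul, map_mul, map_mul, gen_X, tauP_rv hQ, tauP_Av hQ, h]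

/-! ### the adjoint derivations -/

open Classical in
variable (Q M) in
/-- the adjoint of the multiplication by the variable `rv k c` -/
noncomputable def DK (k : ℕ) (c : ZMod M) : Derivation ℂ (RS M) (RS M) :=
  if 0 < k ∧ TorZ Q M k c then Dv Q M (k, canon Q M c) else 0

theorem form_rv_mul (k : ℕ) (c : ZMod M) (P P' : RS M) :
    form Q M (rv Q M k c * P) P' = form Q M P (DK Q M k c P') := by
  unfold rv DK
  by_cases h : 0 < k ∧ TorZ Q M k c
  · rw [if_pos h, if_pos h, form_X_mul]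
  · rw [if_neg h, if_neg h, zero_mul, form_zero_left]
    change 0 = form Q M P 0
    rw [form_zero_right]

open Classical in
variable (Q M) in
/-- the number of `j < k` with `Q ^ j c = x` -/
noncomputable def cnt (k : ℕ) (c x : ZMod M) : ℕ := ∑ j ∈ Finset.range k, if (Q : ZMod M) ^ j * c = x then 1 else 0

theorem cnt_Q (hQ : IsUnit (Q : ZMod M)) {k : ℕ} {c : ZMod M} (h : TorZ Q M k c) (x : ZMod M) :
    cnt Q M k c ((Q : ZMod M) * x) = cnt Q M k c x := by
  classical
  unfold cnt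
  have h1 := Finset.sum_range_succ (fun j => if (Q : ZMod M) ^ j * c = (Q : ZMod M) * x then 1 else 0) k
  have h2 := Finset.sum_range_succ' (fun j => if (Q : ZMod M) ^ j * c = (Q : ZMod M) * x then 1 else 0) k
  rw [h1] at h2
  have h3 : (Q : ZMod M) ^ k * c = c := by
    unfold TorZ at h
    rw [sub_mul, one_mul, sub_eq_zero] at h
    exact h
  rw [h3, pow_zero, one_mul] at h2
  have h4 : ∀ j, ((Q : ZMod M) ^ (j + 1) * c = (Q : ZMod M) * x) ↔ ((Q : ZMod M) ^ j * c = x) := by
    intro j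
    rw [pow_succ', mul_assoc]
    exact hQ.mul_right_inj
  simp only [h4] at h2
  have h5 := Nat.add_right_cancel h2
  convert h5 using 1

theorem cnt_eq (hQ : IsUnit (Q : ZMod M)) {k : ℕ} {c : ZMod M} (h : TorZ Q M k c) {x : ZMod M}
    (hx : SameZ Q M c x) : cnt Q M k c x = H577.GLB.Std.zz Q M (k, c) := by
  classical
  obtain ⟨j, rfl⟩ := hx
  induction j with
  | zero =>
    rw [pow_zero, one_mul]
    unfold cnt
    rw [← Finset.card_filter]
    rfl
  | succ j ih => rw [pow_succ', mul_assoc, cnt_Q hQ h, ih]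

theorem cnt_zero {k : ℕ} {c x : ZMod M} (hx : ¬ SameZ Q M c x) : cnt Q M k c x = 0 := by
  classical
  unfold cnt
  refine Finset.sum_eq_zero fun j _ => ?_
  rw [if_neg]
  rintro rfl
  exact hx ⟨j, rfl⟩

theorem DK_rv (hQ : IsUnit (Q : ZMod M)) (k : ℕ) (c : ZMod M) (k' : ℕ) (c' : ZMod M) (h : TorZ Q M k c ∨ k = k' ∧ TorZ Q M k c') :
    DK Q M k c (rv Q M k' c') = if k = k' then ((cnt Q M k c c' : ℕ) : RS M) else 0 := by
  by_cases hk0 : 0 < k
  swap
  · have hk : k = 0 := by omega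
    subst hk
    rw [DK, if_neg (by simp)]
    have : cnt Q M 0 c c' = 0 := by simp [cnt]
    rw [this]
    simp
  by_cases hkk : k = k'
  swap
  · rw [if_neg hkk]
    unfold rv
    split_ifs with h1
    · rcases h with h | h
      · rw [DK, if_pos ⟨hk0, h⟩, Dv_apply, pderiv_X, Pi.single_eq_of_ne, smul_zero]
        intro h2
        exact hkk (Prod.ext_iff.1 h2).1.symm
      · exact absurd h.1 hkk
    · rw [map_zero]
  subst hkk
  rw [if_pos rfl]
  by_cases hs : SameZ Q M c c'
  · have h1 : TorZ Q M k c ↔ TorZ Q M k c' := by rw [torZ_iff, torZ_iff, perZ_of_same hQ hs]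
    have h2 : TorZ Q M k c := by
      rcases h with h | h
      · exact h
      · exact h1.2 h.2
    rw [cnt_eq hQ h2 hs, DK, if_pos ⟨hk0, h2⟩, rv, if_pos ⟨hk0, h1.1 h2⟩, ← canon_eq_of_same hQ hs, Dv_apply, pderiv_X,
      Pi.single_eq_same, Algebra.smul_def, mul_one, map_natCast]
    congr 1
    have e1 := zz_eq' hQ h2
    have e2 : TorZ Q M k (canon Q M c) := by
      rw [torZ_iff, ← perZ_of_same hQ (sameZ_canon c), ← torZ_iff]; exact h2
    have e3 := zz_eq' hQ e2
    rw [← perZ_of_same hQ (sameZ_canon c)] at e3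
    exact Nat.eq_of_mul_eq_mul_left (perZ_pos hQ c) (e3.trans e1.symm)
  · rw [cnt_zero hs, Nat.cast_zero]
    unfold DK rv
    split_ifs with h1 h2
    · rw [Dv_apply, pderiv_X, Pi.single_eq_of_ne, smul_zero]
      intro h3
      exact hs ((canon_eq_iff hQ).1 (Prod.ext_iff.1 h3).2.symm)
    · rw [map_zero]
    · rfl
    · rfl

theorem DK_mem (hQ : IsUnit (Q : ZMod M)) {k : ℕ} {c : ZMod M} (hc : TorZ Q M k c) {x : RS M} (hx : x ∈ GenR Q M) :
    DK Q M k c x ∈ GenR Q M := by
  obtain ⟨P, rfl⟩ := mem_GenR.1 hx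
  clear hx
  induction P using MvPolynomial.induction_on with
  | C a =>
    rw [show (C a : RS M) = algebraMap ℂ _ a from rfl, AlgHom.commutes, Derivation.map_algebraMap]
    exact zero_mem _
  | add P P' h h' =>
    rw [map_add, map_add]
    exact add_mem h h'
  | mul_X P v h =>
    rw [map_mul, gen_X, Derivation.leibniz, DK_rv hQ k c _ _ (Or.inl hc)]
    refine add_mem ?_ ?_
    · rw [smul_eq_mul]
      refine mul_mem (mem_GenR.2 ⟨P, rfl⟩) ?_
      split_ifs
      · exact natCast_mem _ _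
      · exact zero_mem _
    · rw [smul_eq_mul]
      exact mul_mem (rv_mem _ _) h

/-- the truncation and the adjoint derivations -/
theorem DK_tauP (hQ : IsUnit (Q : ZMod M)) {k : ℕ} {c : ZMod M} (hc : TorZ Q M k c) {x : RS M} (hx : x ∈ GenR Q M) :
    DK Q M k c (tauP Q M p x) =
      tauP Q M p (((Eta Q M p k).card : ℂ)⁻¹ • ∑ η ∈ Eta Q M p k, DK Q M k (c + η) x) := by
  obtain ⟨P, rfl⟩ := mem_GenR.1 hx
  clear hx
  induction P using MvPolynomial.induction_on with
  | C a =>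
    rw [show (C a : RS M) = algebraMap ℂ _ a from rfl, AlgHom.commutes, AlgHom.commutes, Derivation.map_algebraMap]
    symm
    rw [Finset.sum_eq_zero, smul_zero, map_zero]
    intro η _
    rw [Derivation.map_algebraMap]
  | add P P' h h' =>
    rw [map_add, map_add, map_add, h, h', ← map_add]
    congr 1
    rw [← smul_add, ← Finset.sum_add_distrib]
    congr 1
    exact Finset.sum_congr rfl fun η _ => (map_add _ _ _).symm
  | mul_X P v h =>
    -- the value on a variable
    have key : DK Q M k c (tauP Q M p (rv Q M v.1 v.2)) =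
        tauP Q M p (((Eta Q M p k).card : ℂ)⁻¹ • ∑ η ∈ Eta Q M p k, DK Q M k (c + η) (rv Q M v.1 v.2)) := by
      have e1 : DK Q M k c (tauP Q M p (rv Q M v.1 v.2)) =
          ((Eta Q M p v.1).card : ℂ)⁻¹ • ∑ η ∈ Eta Q M p v.1, if k = v.1 then ((cnt Q M k c (v.2 + η) : ℕ) : RS M) else 0 := by
        rw [tauP_rv hQ, Av, Derivation.map_smul, map_sum]
        congr 1
        exact Finset.sum_congr rfl fun η _ => DK_rv hQ _ _ _ _ (Or.inl hc)
      have e2 : tauP Q M p (((Eta Q M p k).card : ℂ)⁻¹ • ∑ η ∈ Eta Q M p k, DK Q M k (c + η) (rv Q M v.1 v.2)) =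
          ((Eta Q M p k).card : ℂ)⁻¹ • ∑ η ∈ Eta Q M p k, if k = v.1 then ((cnt Q M k (c + η) v.2 : ℕ) : RS M) else 0 := by
        rw [map_smul, map_sum]
        congr 1
        refine Finset.sum_congr rfl fun η hη => ?_
        rw [DK_rv hQ _ _ _ _ (Or.inl (tor_add hc (Eta_tor hη)))]
        split_ifs
        · rw [map_natCast]
        · rw [map_zero]
      rw [e1, e2]
      by_cases hk : k = v.1
      · rw [← hk]
        congr 1
        simp only [if_true]
        rw [← Nat.cast_sum, ← Nat.cast_sum]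
        congr 1
        classical
        unfold cnt
        rw [Finset.sum_comm, Finset.sum_comm (s := Eta Q M p k)]
        refine Finset.sum_congr rfl fun j _ => ?_
        rw [← sum_Eta_neg]
        rw [← sum_Eta_mul (u := (Q : ZMod M) ^ j) (hQ.pow j) (fun η => if (Q : ZMod M) ^ j * c = v.2 + -η then 1 else 0)]
        refine Finset.sum_congr rfl fun η _ => ?_
        have h1 : ((Q : ZMod M) ^ j * c = v.2 + -((Q : ZMod M) ^ j * η)) ↔ ((Q : ZMod M) ^ j * (c + η) = v.2) := by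
          rw [← sub_eq_add_neg, eq_sub_iff_add_eq, mul_add]
        simp only [h1]
      · simp only [if_neg hk, Finset.sum_const_zero, smul_zero]
    rw [map_mul, map_mul, gen_X, Derivation.leibniz, h, key, smul_eq_mul, smul_eq_mul, ← map_mul, ← map_mul, ← map_add]
    congr 1
    rw [mul_smul_comm, mul_smul_comm, ← smul_add, Finset.mul_sum, Finset.mul_sum, ← Finset.sum_add_distrib]
    congr 1
    refine Finset.sum_congr rfl fun η _ => ?_
    rw [Derivation.leibniz, smul_eq_mul, smul_eq_mul]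

theorem constantCoeff_tauP (x : RS M) : constantCoeff (tauP Q M p x) = constantCoeff x := by
  induction x using MvPolynomial.induction_on with
  | C a => rw [show (C a : RS M) = algebraMap ℂ _ a from rfl, AlgHom.commutes]
  | add P P' h h' => rw [map_add, map_add, map_add, h, h']
  | mul_X P v h =>
    rw [map_mul, map_mul, map_mul, constantCoeff_X, mul_zero, tauP_X]
    have : constantCoeff (Av Q M p v.1 v.2) = 0 := by
      rw [Av, constantCoeff_smul, map_sum, Finset.sum_eq_zero, smul_zero]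
      intro η _
      unfold rv
      split_ifs
      · exact constantCoeff_X _ _
      · exact map_zero _
    rw [this, mul_zero]

theorem form_C_left (a : ℂ) (y : RS M) : form Q M (C a) y = a * conj (constantCoeff y) := by
  rw [C_apply, form_monomial_left, constantCoeff_eq, Nf]
  simp

theorem form_tauP (hp : p.Prime) (hQ : IsUnit (Q : ZMod M)) {x y : RS M} (hx : x ∈ GenR Q M) (hy : y ∈ GenR Q M) :
    form Q M (tauP Q M p x) y = form Q M x (tauP Q M p y) := by
  obtain ⟨P, rfl⟩ := mem_GenR.1 hx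
  clear hx
  induction P using MvPolynomial.induction_on generalizing y with
  | C a =>
    have h1 : gen Q M (C a) = C a := AlgHom.commutes _ a
    have h2 : tauP Q M p (C a) = C a := AlgHom.commutes _ a
    rw [h1, h2, form_C_left, form_C_left, constantCoeff_tauP]
  | add P P' h h' => rw [map_add, map_add, form_add_left, form_add_left, h hy, h' hy]
  | mul_X P v h =>
    rw [map_mul, map_mul, gen_X, tauP_rv hQ, mul_comm, mul_comm _ (rv Q M v.1 v.2), form_rv_mul]
    by_cases hv : TorZ Q M v.1 v.2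
    · rw [DK_tauP hQ hv hy, Av, smul_mul_assoc, form_smul_left, Finset.sum_mul, form_sum_left, ← h, form_smul_right,
        form_sum_right, map_inv₀, Complex.conj_natCast]
      · congr 1
        exact Finset.sum_congr rfl fun η _ => form_rv_mul _ _ _ _
      · refine Subalgebra.smul_mem _ (Subalgebra.sum_mem _ fun η hη => ?_) _
        exact DK_mem hQ (tor_add hv (Eta_tor hη)) hy
    · have h1 : DK Q M v.1 v.2 = 0 := by
        rw [DK, if_neg (fun h => hv h.2)]
      have h2 : Av Q M p v.1 v.2 = 0 := by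
        rw [← tauP_rv hQ, rv, if_neg (fun h => hv h.2), map_zero]
      rw [h1, h2, zero_mul, form_zero_left]
      change 0 = form Q M _ 0
      rw [form_zero_right]

end Cfsg.Agent.H120.GLB.Tau
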