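import Cfsg.Agent.H577.GLB.Fam
import Cfsg.Agent.H614.GLn.RSLab
import Cfsg.Agent.H139.Cusp.Orth
import Cfsg.Agent.H120.GLB.Tau
import Mathlib.FieldTheory.Finite.Extension

/-!
# S4536: the context, the label of the cuspidal character, the trivial extension (helper120)

`exists_ctx`, `exists_cuspLab`, `cfE_one`
-/

set_option autoImplicit false
set_option linter.unusedSectionVars false
set_option linter.unusedVariables false

open Polynomial Cfsg
open scoped ComplexConjugate TensorProduct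

namespace Cfsg.Agent.H120.GLB.Ctx

open Cfsg.Agent.H614 Cfsg.Agent.H614.GLn Cfsg.Agent.H577.GLB.Std Cfsg.Agent.H577.GLB.Real Cfsg.Agent.H614.GLn.RSt

universe u

/-! ### the context -/

theorem splits_of (F : Type u) [Field F] [Finite F] {K : Type u} [Field K] [Algebra F K] [Finite K] {D N : ℕ}
    (hK : Nat.card K = Nat.card F ^ D) (hD : ∀ d, 0 < d → d ≤ N → d ∣ D) (h : F[X]) :
    h.natDegree ≤ N → (h.map (algebraMap F K)).Splits := by
  induction h using WfDvdMonoid.induction_on_irreducible with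
  | zero =>
    intro _
    rw [Polynomial.map_zero]
    exact Splits.zero
  | unit u hu =>
    intro _
    obtain ⟨a, -, rfl⟩ := Polynomial.isUnit_iff.1 hu
    rw [Polynomial.map_C]
    exact Splits.C _
  | mul a i ha hi ih =>
    intro hN
    rw [Polynomial.natDegree_mul hi.ne_zero ha] at hN
    rw [Polynomial.map_mul]
    refine Splits.mul ?_ (ih (by omega))
    have h1 : i.natDegree ∣ D := hD _ hi.natDegree_pos (by omega)
    have h2 := (hi.natDegree_dvd_iff_dvd_X_pow_card_pow_sub_X).1 h1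
    have h3 : (X ^ Nat.card K - X : K[X]) = (X ^ (Nat.card F) ^ D - X : F[X]).map (algebraMap F K) := by
      rw [hK, Polynomial.map_sub, Polynomial.map_pow, Polynomial.map_X]
    have h4 := Polynomial.splits_X_pow_nat_card_sub_X (K := K)
    refine Splits.of_dvd h4 ?_ ?_
    · exact FiniteField.X_pow_card_sub_X_ne_zero K Finite.one_lt_card
    · rw [h3]
      exact Polynomial.map_dvd _ h2

theorem exists_ctx (F : Type u) [Field F] [Finite F] (N : ℕ) :
    ∃ (K : Type u) (_ : Field K) (_ : Algebra F K) (θ : K →*₀ ℂ) (M : ℕ) (_ : NeZero M), Ctx F θ N M := by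
  have hD0 : N.factorial ≠ 0 := (Nat.factorial_pos N).ne'
  have := NeZero.mk hD0
  obtain ⟨p, hpc⟩ := CharP.exists F
  have hp : Fact p.Prime := ⟨CharP.char_is_prime F p⟩
  let L : Type := FiniteField.Extension F p N.factorial
  let K : Type u := ULift.{u} L
  have hL : Nat.card L = Nat.card F ^ N.factorial := FiniteField.natCard_extension F p N.factorial
  have hK : Nat.card K = Nat.card F ^ N.factorial := by
    rw [← hL]
    exact Nat.card_congr Equiv.ulift
  have hfL : Finite L := inferInstance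
  have hfK : Finite K := Finite.of_equiv L Equiv.ulift.symm
  let iA : Algebra F K := inferInstance
  obtain ⟨θ, hθ⟩ := H139.Cusp.exists_theta K
  have hM : Nat.card Kˣ ≠ 0 := Nat.card_pos.ne'
  refine ⟨K, inferInstance, iA, θ, Nat.card Kˣ, ⟨hM⟩, ⟨inferInstance, hfK, hθ, ?_, rfl, ?_⟩⟩
  · intro h _ hd
    exact splits_of F hK (fun d hd0 hdN => Nat.dvd_factorial hd0 hdN) h hd
  · intro d hd0 hdN
    rw [Nat.card_units, hK]
    obtain ⟨c, hc⟩ := Nat.dvd_factorial hd0 hdN
    rw [hc, pow_mul]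
    exact Nat.sub_one_dvd_pow_sub_one _ _

/-! ### the label of the cuspidal character -/

section lab

variable {Q : ℤ} {M : ℕ} [NeZero M] {m : ℕ}

/-- the vacuum -/
def b0 (m : ℕ) : Fin m → ℕ := fun i => (i : ℕ)

/-- one box -/
def b1 {m : ℕ} (hm : 0 < m) : Fin m → ℕ := Function.update (b0 m) ⟨m - 1, by omega⟩ m

theorem b0_mono : StrictMono (b0 m) := fun _ _ h => h

theorem b1_last (hm : 0 < m) : b1 hm ⟨m - 1, by omega⟩ = m := by simp [b1]

theorem b1_ne (hm : 0 < m) {i : Fin m} (h : i ≠ ⟨m - 1, by omega⟩) : b1 hm i = (i : ℕ) := by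
  simp [b1, h, b0]

theorem b1_mono (hm : 0 < m) : StrictMono (b1 hm) := by
  intro i j hij
  have hi : i ≠ ⟨m - 1, by omega⟩ := by
    intro h
    rw [h] at hij
    have h1 : m - 1 < (j : ℕ) := hij
    have h2 := j.2
    omega
  rw [b1_ne hm hi]
  by_cases hj : j = ⟨m - 1, by omega⟩
  · rw [hj, b1_last]
    exact i.2
  · rw [b1_ne hm hj]
    exact hij

theorem sum_b1 (hm : 0 < m) : ∑ i, b1 hm i = 1 + ∑ i : Fin m, (i : ℕ) := by
  classical
  have h1 : ∑ i, b1 hm i = b1 hm ⟨m - 1, by omega⟩ + ∑ i ∈ Finset.univ.erase (⟨m - 1, by omega⟩ : Fin m), b1 hm i :=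
    (Finset.add_sum_erase _ _ (Finset.mem_univ _)).symm
  have h2 : ∑ i : Fin m, (i : ℕ) = (m - 1) + ∑ i ∈ Finset.univ.erase (⟨m - 1, by omega⟩ : Fin m), (i : ℕ) :=
    (Finset.add_sum_erase _ (fun i : Fin m => (i : ℕ)) (Finset.mem_univ (⟨m - 1, by omega⟩ : Fin m))).symm
  rw [h1, h2, b1_last, Finset.sum_congr rfl fun i hi => b1_ne hm (Finset.ne_of_mem_erase hi)]
  omega

theorem bsz_b0 : H577.GLB.Std.bsz (b0 m) = 0 := by
  unfold H577.GLB.Std.bsz b0
  omega

theorem bsz_b1 (hm : 0 < m) : H577.GLB.Std.bsz (b1 hm) = 1 := by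
  unfold H577.GLB.Std.bsz
  rw [sum_b1]
  omega

theorem vac_b0 : vac (b0 m) = 1 := by
  classical
  unfold vac
  rw [Finset.sum_eq_single 1]
  · rw [if_pos (by funext i; rfl)]
    simp [sg]
  · intro σ _ hσ
    rw [if_neg]
    intro h
    apply hσ
    ext i
    exact (congrFun h i).symm
  · intro h
    exact absurd (Finset.mem_univ _) h

theorem SS_b0 {A : Type*} [CommRing A] [Algebra ℂ A] (P : ℕ → A) : SS P 0 (b0 m) = 1 := by
  rw [SS_zero_eq, vac_b0]
  simp

theorem SS_b1 {A : Type*} [CommRing A] [Algebra ℂ A] (P : ℕ → A) (hm : 0 < m) : SS P 1 (b1 hm) = P 1 := by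
  classical
  have h := SS_rec P 1 (b1 hm)
  rw [Nat.cast_one, one_smul] at h
  rw [h, Finset.Icc_self, Finset.sum_singleton, Finset.sum_eq_single (⟨m - 1, by omega⟩ : Fin m)]
  · rw [if_pos (by rw [b1_last]; exact hm)]
    have h1 : dn (b1 hm) ⟨m - 1, by omega⟩ 1 = b0 m := by
      funext i
      by_cases hi : i = ⟨m - 1, by omega⟩
      · subst hi
        rw [dn_self, b1_last]
        rfl
      · rw [dn_ne _ _ hi, b1_ne hm hi]
        rfl
    rw [h1, SS_b0, mul_one]
  · intro j _ hj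
    split_ifs with h1
    · rw [b1_ne hm hj] at h1
      have hj2 := j.2
      set k : Fin m := ⟨(j : ℕ) - 1, by omega⟩ with hk
      have hkj : k ≠ j := by
        intro h2
        have h3 : (j : ℕ) - 1 = j := congrArg Fin.val h2
        omega
      have hkl : k ≠ ⟨m - 1, by omega⟩ := by
        intro h2
        have h3 : (j : ℕ) - 1 = m - 1 := congrArg Fin.val h2
        have h4 : (j : ℕ) ≠ m - 1 := fun h5 => hj (Fin.ext h5)
        omega
      refine (SS_alt P 0).eq_zero two_torsion_alg hkj ?_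
      rw [dn_self, dn_ne _ _ hkj, b1_ne hm hkl, b1_ne hm hj]
    · rfl
  · intro h1
    exact absurd (Finset.mem_univ _) h1

theorem sameZ_mul_iff (hQ : IsUnit (Q : ZMod M)) (δ c : ZMod M) :
    SameZ Q M δ ((Q : ZMod M) * c) ↔ SameZ Q M δ c := by
  have h1 : SameZ Q M c ((Q : ZMod M) * c) := ⟨1, by rw [pow_one]⟩
  exact ⟨fun h => SameZ.trans' h (SameZ.symm' hQ h1), fun h => SameZ.trans' h h1⟩

open Classical in
theorem card_orbit (hQ : IsUnit (Q : ZMod M)) (δ : ZMod M) :
    (Finset.univ.filter fun c : ZMod M => SameZ Q M δ c).card = perZ Q M δ := by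
  have h0 := perZ_pos hQ δ
  have h1 : (Finset.univ.filter fun c : ZMod M => SameZ Q M δ c) =
      (Finset.range (perZ Q M δ)).image fun j => (Q : ZMod M) ^ j * δ := by
    ext c
    simp only [Finset.mem_filter, Finset.mem_univ, true_and, Finset.mem_image, Finset.mem_range]
    constructor
    · rintro ⟨j, rfl⟩
      refine ⟨j % perZ Q M δ, Nat.mod_lt _ h0, ?_⟩
      rw [← iter_mul, ← iter_mul]
      exact Function.iterate_mod_minimalPeriod_eq
    · rintro ⟨j, -, rfl⟩
      exact ⟨j, rfl⟩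
  rw [h1, Finset.card_image_of_injOn, Finset.card_range]
  intro i hi j hj hij
  simp only [Finset.coe_range, Set.mem_Iio] at hi hj
  simp only at hij
  rw [← iter_mul, ← iter_mul] at hij
  exact Function.iterate_injOn_Iio_minimalPeriod hi hj hij

theorem exists_cuspLab (hQ : IsUnit (Q : ZMod M)) (hm : 0 < m) (δ : ZMod M) :
    ∃ t : LabZ Q M m (perZ Q M δ), SchP Q M t.t = rv Q M (perZ Q M δ) δ ∧ OnlyOn Q M δ t.t ∧ H577.GLB.Std.bsz (t.t δ) = 1 := by
  classical
  let t0 : ZMod M → Fin m → ℕ := fun c => if SameZ Q M δ c then b1 hm else b0 m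
  have ht1 : ∀ c, SameZ Q M δ c → t0 c = b1 hm := fun c h => if_pos h
  have ht0 : ∀ c, ¬ SameZ Q M δ c → t0 c = b0 m := fun c h => if_neg h
  refine ⟨⟨t0, ?_, ?_, ?_⟩, ?_, ?_, ?_⟩
  · intro c
    by_cases h : SameZ Q M δ c
    · rw [ht1 c h]; exact b1_mono hm
    · rw [ht0 c h]; exact b0_mono
  · intro c
    by_cases h : SameZ Q M δ c
    · rw [ht1 c h, ht1 _ ((sameZ_mul_iff hQ δ c).2 h)]
    · rw [ht0 c h, ht0 _ (fun h2 => h ((sameZ_mul_iff hQ δ c).1 h2))]
  · rw [← card_orbit hQ δ, Finset.card_filter]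
    refine Finset.sum_congr rfl fun c _ => ?_
    by_cases h : SameZ Q M δ c
    · rw [ht1 c h, bsz_b1, if_pos h]
    · rw [ht0 c h, bsz_b0, if_neg h]
  · change SchP Q M t0 = _
    rw [SchP_eq, prodS]
    have hc : canon Q M δ ∈ repsZ Q M := canon_mem_repsZ hQ δ
    rw [Finset.prod_eq_single_of_mem _ hc]
    · rw [ht1 _ (sameZ_canon δ), bsz_b1, SS_b1, Pw, one_mul, ← perZ_of_same hQ (sameZ_canon δ)]
      exact (Tau.rv_of_same hQ _ (sameZ_canon δ)).symm
    · intro c hc' hne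
      have h : ¬ SameZ Q M δ c := by
        intro h
        apply hne
        rw [canon_eq_of_same hQ h]
        exact (mem_repsZ.1 hc').symm
      rw [ht0 c h, bsz_b0, SS_b0]
  · intro c h
    change 0 < H577.GLB.Std.bsz (t0 c) at h
    by_contra h2
    rw [ht0 c h2, bsz_b0] at h
    exact lt_irrefl _ h
  · change H577.GLB.Std.bsz (t0 δ) = 1
    rw [ht1 δ (sameZ_refl δ), bsz_b1]

end lab

/-! ### the trivial extension -/

section cf

variable {Q : ℤ} {M : ℕ} [NeZero M]

theorem PhiF_one : PhiF Q M 1 = Tau.gen Q M := by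
  unfold PhiF Tau.gen
  congr 1
  funext v
  rw [if_pos (one_dvd _), Finset.sum_range_one, pow_one, Nat.div_one, pow_zero, one_mul]

theorem gen_rv (hQ : IsUnit (Q : ZMod M)) (k : ℕ) (c : ZMod M) : Tau.gen Q M (rv Q M k c) = rv Q M k c := by
  by_cases h : 0 < k ∧ TorZ Q M k c
  · have h1 : rv Q M k c = MvPolynomial.X (k, canon Q M c) := by rw [rv, if_pos h]
    rw [h1, Tau.gen_X, ← h1]
    exact (Tau.rv_of_same hQ k (sameZ_canon c)).symm
  · rw [rv, if_neg h, map_zero]

/-- the functional -/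
noncomputable def LL (Q : ℤ) (M : ℕ) (y₁ y₂ : RS M) : RS M ⊗[ℂ] RS M →ₗ[ℂ] ℂ :=
  LinearMap.mul' ℂ ℂ ∘ₗ TensorProduct.map ((frm Q M y₁) ∘ₗ (Tau.gen Q M).toLinearMap) (frm Q M y₂)

theorem LL_tmul (y₁ y₂ a b : RS M) : LL Q M y₁ y₂ (a ⊗ₜ b) = form Q M (Tau.gen Q M a) y₁ * form Q M b y₂ := rfl

theorem LL_left (hQ : IsUnit (Q : ZMod M)) (k : ℕ) (c : ZMod M) (y₁ y₂ : RS M) (T : RS M ⊗[ℂ] RS M) :
    LL Q M y₁ y₂ ((rv Q M k c ⊗ₜ 1) * T) = LL Q M (Tau.DK Q M k c y₁) y₂ T := by
  induction T using TensorProduct.induction_on with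
  | zero => rw [mul_zero, map_zero, map_zero]
  | tmul a b =>
    rw [Algebra.TensorProduct.tmul_mul_tmul, one_mul, LL_tmul, LL_tmul, map_mul, gen_rv hQ, Tau.form_rv_mul]
  | add x y hx hy => rw [mul_add, map_add, map_add, hx, hy]

theorem LL_right (k : ℕ) (c : ZMod M) (y₁ y₂ : RS M) (T : RS M ⊗[ℂ] RS M) :
    LL Q M y₁ y₂ ((1 ⊗ₜ rv Q M k c) * T) = LL Q M y₁ (Tau.DK Q M k c y₂) T := by
  induction T using TensorProduct.induction_on with
  | zero => rw [mul_zero, map_zero, map_zero]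
  | tmul a b =>
    rw [Algebra.TensorProduct.tmul_mul_tmul, one_mul, LL_tmul, LL_tmul, Tau.form_rv_mul]
  | add x y hx hy => rw [mul_add, map_add, map_add, hx, hy]

theorem coP_rv (k : ℕ) (c : ZMod M) : coP M (rv Q M k c) = rv Q M k c ⊗ₜ 1 + 1 ⊗ₜ rv Q M k c := by
  unfold rv
  split_ifs with h
  · unfold coP
    rw [MvPolynomial.aeval_X]
  · rw [map_zero, TensorProduct.zero_tmul, TensorProduct.tmul_zero, add_zero]

theorem cfE_one (hQ : IsUnit (Q : ZMod M)) {x : RS M} (hx : x ∈ GenR Q M) (y₁ y₂ : RS M) :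
    cfE Q M 1 x y₁ y₂ = form Q M x (y₁ * y₂) := by
  have h0 : cfE Q M 1 x y₁ y₂ = LL Q M y₁ y₂ (coP M x) := by
    unfold cfE LL
    rw [PhiF_one, pow_one]
    rfl
  rw [h0]
  obtain ⟨P, rfl⟩ := Tau.mem_GenR.1 hx
  clear hx h0
  induction P using MvPolynomial.induction_on generalizing y₁ y₂ with
  | C a =>
    have h1 : Tau.gen Q M (MvPolynomial.C a) = MvPolynomial.C a := AlgHom.commutes _ a
    have h2 : coP M (MvPolynomial.C a) = (MvPolynomial.C a : RS M) ⊗ₜ 1 := AlgHom.commutes _ a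
    rw [h1, h2, LL_tmul, h1, Tau.form_C_left, Tau.form_C_left, form_one_left, map_mul, map_mul, mul_assoc]
  | add P P' h h' => rw [map_add, map_add, map_add, form_add_left, h, h']
  | mul_X P v h =>
    rw [map_mul, Tau.gen_X, mul_comm, map_mul, coP_rv, add_mul, map_add, LL_left hQ, LL_right, h, h, Tau.form_rv_mul,
      Derivation.leibniz, smul_eq_mul, smul_eq_mul, ← form_add_right, mul_comm (Tau.DK Q M v.1 v.2 y₁), add_comm]

end cf

end Cfsg.Agent.H120.GLB.Ctx
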